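import Cfsg.Agent.Lib.CosetTable.Fi22b.RowsOK
import Cfsg.Agent.Lib.CosetTable.Fi22b.FixOK1

/-! Generated certificate data for the coset table `Fi22b`. -/

namespace Cfsg.Agent.Lib.CosetTable.Fi22b

open Cfsg.Agent.Lib.CosetTable

theorem fix_ok : Below (tab.fixOK cert.rels) 14080 :=
  ((((((((((((((((((((((((((((((((((((((((((((((((((((((((((((((((((((((((((((((((((((((((((((((((((((((((((((((Below.zero _).step (b := 128) fix_ok_run1 rfl).step (b := 256) fix_ok_run2 rfl).step (b := 384) fix_ok_run3 rfl).step (b := 512) fix_ok_run4 rfl).step (b := 640) fix_ok_run5 rfl).step (b := 768) fix_ok_run6 rfl).step (b := 896) fix_ok_run7 rfl).step (b := 1024) fix_ok_run8 rfl).step (b := 1152) fix_ok_run9 rfl).step (b := 1280) fix_ok_run10 rfl).step (b := 1408) fix_ok_run11 rfl).step (b := 1536) fix_ok_run12 rfl).step (b := 1664) fix_ok_run13 rfl).step (b := 1792) fix_ok_run14 rfl).step (b := 1920) fix_ok_run15 rfl).step (b := 2048) fix_ok_run16 rfl).step (b := 2176) fix_ok_run17 rfl).step (b := 2304) fix_ok_run18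 rfl).step (b := 2432) fix_ok_run19 rfl).step (b := 2560) fix_ok_run20 rfl).step (b := 2688) fix_ok_run21 rfl).step (b := 2816) fix_ok_run22 rfl).step (b := 2944) fix_ok_run23 rfl).step (b := 3072) fix_ok_run24 rfl).step (b := 3200) fix_ok_run25 rfl).step (b := 3328) fix_ok_run26 rfl).step (b := 3456) fix_ok_run27 rfl).step (b := 3584) fix_ok_run28 rfl).step (b := 3712) fix_ok_run29 rfl).step (b := 3840) fix_ok_run30 rfl).step (b := 3968) fix_ok_run31 rfl).step (b := 4096) fix_ok_run32 rfl).step (b := 4224) fix_ok_run33 rfl).step (b := 4352) fix_ok_run34 rfl).step (b := 4480) fix_ok_run35 rfl).step (b := 4608) fix_ok_run36 rfl).step (b := 4736) fix_ok_run37 rfl).step (b := 4864) fix_ok_run38 rfl).step (b := 4992) fix_ok_run39 rfl).step (b := 5120) fix_ok_run40 rfl).step (b := 5248) fix_ok_run41 rfl).step (b := 5376) fix_ok_run42 rfl).step (b := 5504) fix_ok_run43 rfl).step (b := 5632) fix_ok_run44 rfl).step (b := 5760) fix_ok_run45 rfl).step (b := 5888) fix_ok_run46 rfl).step (b := 6016) fix_ok_run47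 rfl).step (b := 6144) fix_ok_run48 rfl).step (b := 6272) fix_ok_run49 rfl).step (b := 6400) fix_ok_run50 rfl).step (b := 6528) fix_ok_run51 rfl).step (b := 6656) fix_ok_run52 rfl).step (b := 6784) fix_ok_run53 rfl).step (b := 6912) fix_ok_run54 rfl).step (b := 7040) fix_ok_run55 rfl).step (b := 7168) fix_ok_run56 rfl).step (b := 7296) fix_ok_run57 rfl).step (b := 7424) fix_ok_run58 rfl).step (b := 7552) fix_ok_run59 rfl).step (b := 7680) fix_ok_run60 rfl).step (b := 7808) fix_ok_run61 rfl).step (b := 7936) fix_ok_run62 rfl).step (b := 8064) fix_ok_run63 rfl).step (b := 8192) fix_ok_run64 rfl).step (b := 8320) fix_ok_run65 rfl).step (b := 8448) fix_ok_run66 rfl).step (b := 8576) fix_ok_run67 rfl).step (b := 8704) fix_ok_run68 rfl).step (b := 8832) fix_ok_run69 rfl).step (b := 8960) fix_ok_run70 rfl).step (b := 9088) fix_ok_run71 rfl).step (b := 9216) fix_ok_run72 rfl).step (b := 9344) fix_ok_run73 rfl).step (b := 9472) fix_ok_run74 rfl).step (b := 9600) fix_ok_run75 rfl).step (b := 9728) fix_ok_run76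 rfl).step (b := 9856) fix_ok_run77 rfl).step (b := 9984) fix_ok_run78 rfl).step (b := 10112) fix_ok_run79 rfl).step (b := 10240) fix_ok_run80 rfl).step (b := 10368) fix_ok_run81 rfl).step (b := 10496) fix_ok_run82 rfl).step (b := 10624) fix_ok_run83 rfl).step (b := 10752) fix_ok_run84 rfl).step (b := 10880) fix_ok_run85 rfl).step (b := 11008) fix_ok_run86 rfl).step (b := 11136) fix_ok_run87 rfl).step (b := 11264) fix_ok_run88 rfl).step (b := 11392) fix_ok_run89 rfl).step (b := 11520) fix_ok_run90 rfl).step (b := 11648) fix_ok_run91 rfl).step (b := 11776) fix_ok_run92 rfl).step (b := 11904) fix_ok_run93 rfl).step (b := 12032) fix_ok_run94 rfl).step (b := 12160) fix_ok_run95 rfl).step (b := 12288) fix_ok_run96 rfl).step (b := 12416) fix_ok_run97 rfl).step (b := 12544) fix_ok_run98 rfl).step (b := 12672) fix_ok_run99 rfl).step (b := 12800) fix_ok_run100 rfl).step (b := 12928) fix_ok_run101 rfl).step (b := 13056) fix_ok_run102 rfl).step (b := 13184) fix_ok_run103 rfl).step (b := 13312) fix_ok_run104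 rfl).step (b := 13440) fix_ok_run105 rfl).step (b := 13568) fix_ok_run106 rfl).step (b := 13696) fix_ok_run107 rfl).step (b := 13824) fix_ok_run108 rfl).step (b := 13952) fix_ok_run109 rfl).step (b := 14080) fix_ok_run110 rfl

end Cfsg.Agent.Lib.CosetTable.Fi22b
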